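import Mathlib.RingTheory.GradedAlgebra.Homogeneous.Ideal
import Mathlib.RingTheory.MvPolynomial.Ideal
import Mathlib.RingTheory.Smooth.Locus
import Mathlib.RingTheory.Smooth.Basic
import Mathlib.RingTheory.FinitePresentation
import Mathlib.RingTheory.Ideal.Cotangent
import Mathlib.LinearAlgebra.FreeModule.Finite.Basic

/-!
A nonnegatively graded algebra, smooth along the zero section with free conormal module, is a polynomial ring.
-/

universe u

open MvPolynomial

namespace Groth.Agent.GrSmooth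

variable {A B : Type u} [CommRing A] [CommRing B] [Algebra A B] (𝒜 : ℕ → Submodule A B) [GradedAlgebra 𝒜]

/-- The irrelevant ideal. -/
noncomputable abbrev irr : Ideal B := (HomogeneousIdeal.irrelevant 𝒜).toIdeal

/-- Projection to degree `n`. -/
noncomputable abbrev proj (n : ℕ) : B →ₗ[A] B := GradedAlgebra.proj 𝒜 n

lemma proj_mem (n : ℕ) (b : B) : proj 𝒜 n b ∈ 𝒜 n := by
  rw [proj, GradedAlgebra.proj_apply]; exact SetLike.coe_mem _

lemma proj_of_mem {n : ℕ} {b : B} (h : b ∈ 𝒜 n) (m : ℕ) : proj 𝒜 m b = if n = m then b else 0 := by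
  rw [proj, GradedAlgebra.proj_apply]
  split
  · next e => subst e; rw [DirectSum.decompose_of_mem_same _ h]
  · next e => rw [DirectSum.decompose_of_mem_ne _ h e]

lemma mem_irr {b : B} : b ∈ irr 𝒜 ↔ proj 𝒜 0 b = 0 := Iff.rfl

lemma proj_mem_irr {b : B} (hb : b ∈ irr 𝒜) (n : ℕ) : proj 𝒜 n b ∈ irr 𝒜 :=
  (HomogeneousIdeal.irrelevant 𝒜).isHomogeneous n hb

lemma proj_sq_mem {b : B} (hb : b ∈ irr 𝒜 ^ 2) (n : ℕ) : proj 𝒜 n b ∈ irr 𝒜 ^ 2 := by
  have h : (irr 𝒜 ^ 2).IsHomogeneous 𝒜 := by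
    rw [pow_two]
    exact (HomogeneousIdeal.irrelevant 𝒜).isHomogeneous.mul (HomogeneousIdeal.irrelevant 𝒜).isHomogeneous
  exact h n hb

/-- Degree `n` products of two elements of the irrelevant ideal. -/
lemma proj_mul_mem (S : Subalgebra A B) (n : ℕ) (hS : ∀ m < n, ∀ x ∈ 𝒜 m, x ∈ S)
    {x y : B} (hx : x ∈ irr 𝒜) (hy : y ∈ irr 𝒜) : proj 𝒜 n (x * y) ∈ S := by
  classical
  rw [← DirectSum.sum_support_decompose 𝒜 x, Finset.sum_mul, map_sum]
  refine sum_mem fun i _ => ?_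
  rw [← DirectSum.sum_support_decompose 𝒜 y, Finset.mul_sum, map_sum]
  refine sum_mem fun j _ => ?_
  rw [proj_of_mem 𝒜 (SetLike.mul_mem_graded (SetLike.coe_mem _) (SetLike.coe_mem _))]
  split
  · next h =>
    by_cases hi : i = 0
    · subst hi
      have : (DirectSum.decompose 𝒜 x 0 : B) = 0 := by
        simpa [mem_irr, GradedAlgebra.proj_apply] using hx
      rw [this, zero_mul]; exact zero_mem _
    by_cases hj : j = 0
    · subst hj
      have : (DirectSum.decompose 𝒜 y 0 : B) = 0 := by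
        simpa [mem_irr, GradedAlgebra.proj_apply] using hy
      rw [this, mul_zero]; exact zero_mem _
    exact mul_mem (hS i (by omega) _ (SetLike.coe_mem _)) (hS j (by omega) _ (SetLike.coe_mem _))
  · exact zero_mem _

theorem eq_top_of_irr_le (S : Subalgebra A B) (h0 : ∀ b ∈ 𝒜 0, b ∈ S)
    (h : ∀ b ∈ irr 𝒜, ∀ n, b ∈ 𝒜 n → ∃ s ∈ S, s ∈ 𝒜 n ∧ b - s ∈ irr 𝒜 ^ 2) : S = ⊤ := by
  classical
  have key : ∀ n, ∀ b ∈ 𝒜 n, b ∈ S := by
    intro n
    induction n using Nat.strong_induction_on with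
    | _ n ih =>
      intro b hb
      rcases Nat.eq_zero_or_pos n with rfl | hn
      · exact h0 b hb
      have hbi : b ∈ irr 𝒜 := (mem_irr 𝒜).2 (by rw [proj_of_mem 𝒜 hb, if_neg hn.ne'])
      obtain ⟨s, hs, hsn, hd⟩ := h b hbi n hb
      have : proj 𝒜 n (b - s) ∈ S := by
        rw [pow_two] at hd
        exact Submodule.mul_induction_on hd (fun x hx y hy => proj_mul_mem 𝒜 S n ih hx hy)
          (fun x y hx hy => by rw [map_add]; exact add_mem hx hy)
      rw [proj_of_mem 𝒜 (sub_mem hb hsn), if_pos rfl] at this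
      simpa using add_mem this hs
  refine eq_top_iff.2 fun b _ => ?_
  rw [← DirectSum.sum_support_decompose 𝒜 b]
  exact sum_mem fun i _ => key i _ (SetLike.coe_mem _)

/-- The conormal module. -/
abbrev Con : Type u := (irr 𝒜).Cotangent

/-- The irrelevant ideal as an `A`-submodule. -/
noncomputable abbrev irrA : Submodule A B := (irr 𝒜).restrictScalars A

/-- The quotient map to the conormal module. -/
noncomputable def q : irrA 𝒜 →ₗ[A] Con 𝒜 where
  toFun x := (irr 𝒜).toCotangent ⟨x.1, x.2⟩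
  map_add' x y := map_add (irr 𝒜).toCotangent ⟨x.1, x.2⟩ ⟨y.1, y.2⟩
  map_smul' a x := by
    simp only [RingHom.id_apply, ← algebraMap_smul B a ((irr 𝒜).toCotangent _), ← map_smul]
    congr 1
    exact Subtype.ext (Algebra.smul_def a x.1)

lemma q_surjective : Function.Surjective (q 𝒜) := fun c => by
  obtain ⟨⟨x, hx⟩, rfl⟩ := (irr 𝒜).toCotangent_surjective c
  exact ⟨⟨x, hx⟩, rfl⟩

lemma q_eq_zero {x : irrA 𝒜} : q 𝒜 x = 0 ↔ (x : B) ∈ irr 𝒜 ^ 2 :=
  (irr 𝒜).toCotangent_eq_zero ⟨x.1, x.2⟩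

/-- The degree projections of the conormal module. -/
noncomputable def e (n : ℕ) (τ : Con 𝒜 →ₗ[A] irrA 𝒜) : Con 𝒜 →ₗ[A] Con 𝒜 :=
  q 𝒜 ∘ₗ ((proj 𝒜 n ∘ₗ (irrA 𝒜).subtype).codRestrict (irrA 𝒜) (fun x => proj_mem_irr 𝒜 x.2 n)) ∘ₗ τ

lemma e_q (n : ℕ) (τ : Con 𝒜 →ₗ[A] irrA 𝒜) (hτ : ∀ c, q 𝒜 (τ c) = c) (x : irrA 𝒜) :
    e 𝒜 n τ (q 𝒜 x) = q 𝒜 ⟨proj 𝒜 n x, proj_mem_irr 𝒜 x.2 n⟩ := by
  rw [← sub_eq_zero]
  simp only [e, LinearMap.comp_apply]
  rw [← map_sub, q_eq_zero]
  have h : ((τ (q 𝒜 x) : B) - x) ∈ irr 𝒜 ^ 2 := by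
    have := (q_eq_zero 𝒜 (x := τ (q 𝒜 x) - x)).1 (by rw [map_sub, hτ, sub_self])
    simpa using this
  have := proj_sq_mem 𝒜 h n
  rw [map_sub] at this
  exact this

variable {ι : Type} [Finite ι]

theorem exists_surjective (bC : Module.Basis ι A (Con 𝒜)) (h0 : ∀ b ∈ 𝒜 0, b ∈ Set.range (algebraMap A B)) :
    ∃ y : ι → irrA 𝒜, (∀ i, q 𝒜 (y i) = bC i) ∧
      Function.Surjective (aeval (R := A) fun i => (y i : B)) := by
  classical
  have := Fintype.ofFinite ι
  choose y₀ hy₀ using fun i => q_surjective 𝒜 (bC i)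
  let τ : Con 𝒜 →ₗ[A] irrA 𝒜 := bC.constr A y₀
  have hτ : ∀ c, q 𝒜 (τ c) = c := fun c => by
    have : q 𝒜 ∘ₗ τ = LinearMap.id := bC.ext fun i => by
      rw [LinearMap.comp_apply, LinearMap.id_apply, bC.constr_basis A, hy₀]
    exact LinearMap.congr_fun this c
  let t : Finset ℕ := Finset.univ.biUnion fun i => (DirectSum.decompose 𝒜 (y₀ i : B)).support
  let σ : Con 𝒜 →ₗ[A] irrA 𝒜 := ∑ n ∈ t,
    ((proj 𝒜 n ∘ₗ (irrA 𝒜).subtype).codRestrict (irrA 𝒜) (fun x => proj_mem_irr 𝒜 x.2 n)) ∘ₗ τ ∘ₗ e 𝒜 n τ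
  have hσq : ∀ c, q 𝒜 (σ c) = c := by
    have : q 𝒜 ∘ₗ σ = LinearMap.id := bC.ext fun i => by
      rw [LinearMap.comp_apply, LinearMap.id_apply]
      simp only [σ, LinearMap.sum_apply, map_sum, LinearMap.comp_apply]
      have h1 : ∀ n, q 𝒜 (((proj 𝒜 n ∘ₗ (irrA 𝒜).subtype).codRestrict (irrA 𝒜)
          (fun x => proj_mem_irr 𝒜 x.2 n)) (τ (e 𝒜 n τ (bC i)))) =
            q 𝒜 ⟨proj 𝒜 n (y₀ i), proj_mem_irr 𝒜 (y₀ i).2 n⟩ := fun n => by
        rw [← hy₀ i, e_q 𝒜 n τ hτ]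
        refine (e_q 𝒜 n τ hτ _).trans (congrArg _ (Subtype.ext ?_))
        simp only [proj_of_mem 𝒜 (proj_mem 𝒜 n _), if_true]
      simp only [h1, ← map_sum]
      rw [← hy₀ i]
      refine congrArg _ (Subtype.ext ?_)
      simp only [AddSubmonoidClass.coe_finset_sum, proj, GradedAlgebra.proj_apply]
      rw [← Finset.sum_subset (Finset.subset_biUnion_of_mem
        (fun i => (DirectSum.decompose 𝒜 (y₀ i : B)).support) (Finset.mem_univ i))]
      · exact DirectSum.sum_support_decompose 𝒜 _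
      · intro n _ hn
        rw [DFinsupp.notMem_support_iff.1 hn, ZeroMemClass.coe_zero]
    exact fun c => LinearMap.congr_fun this c
  refine ⟨fun i => σ (bC i), fun i => hσq _, ?_⟩
  rw [← AlgHom.range_eq_top]
  set S := (aeval (R := A) fun i => (σ (bC i) : B)).range
  have hσS : ∀ c, (σ c : B) ∈ S := fun c => by
    rw [← bC.sum_repr c]
    simp only [map_sum, map_smul, AddSubmonoidClass.coe_finset_sum, SetLike.val_smul]
    exact sum_mem fun i _ => S.smul_mem ⟨X i, by simp⟩ _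
  refine eq_top_of_irr_le 𝒜 S (fun b hb => ?_) (fun b hb n hbn => ?_)
  · obtain ⟨a, rfl⟩ := h0 b hb; exact S.algebraMap_mem a
  refine ⟨σ (q 𝒜 ⟨b, hb⟩), hσS _, ?_, ?_⟩
  · have he : ∀ m, m ≠ n → e 𝒜 m τ (q 𝒜 ⟨b, hb⟩) = 0 := fun m hm => by
      rw [e_q 𝒜 m τ hτ, q_eq_zero]
      change proj 𝒜 m b ∈ _
      rw [proj_of_mem 𝒜 hbn, if_neg (Ne.symm hm)]
      exact zero_mem _
    simp only [σ, LinearMap.sum_apply, AddSubmonoidClass.coe_finset_sum, LinearMap.comp_apply]
    refine sum_mem fun m _ => ?_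
    by_cases hm : m = n
    · subst hm; exact proj_mem 𝒜 _ _
    · simp [he m hm]
  · have := (q_eq_zero 𝒜 (x := ⟨b, hb⟩ - σ (q 𝒜 ⟨b, hb⟩))).1 (by rw [map_sub, hσq, sub_self])
    simpa using this

theorem nonempty_equiv [Algebra.FinitePresentation A B] (bC : Module.Basis ι A (Con 𝒜))
    (h0 : ∀ b ∈ 𝒜 0, b ∈ Set.range (algebraMap A B)) (hinj : Function.Injective (algebraMap A B))
    (hsm : ∀ (P : Ideal B) [P.IsPrime], irr 𝒜 ≤ P → Algebra.IsSmoothAt A P) :
    Nonempty (B ≃ₐ[A] MvPolynomial ι A) := by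
  classical
  have := Fintype.ofFinite ι
  obtain ⟨y, hy, hsurj⟩ := exists_surjective 𝒜 bC h0
  set φ : MvPolynomial ι A →ₐ[A] B := aeval (R := A) fun i => (y i : B)
  set 𝔪 : Ideal (MvPolynomial ι A) := idealOfVars ι A
  have hm_mem : ∀ i, (X i : MvPolynomial ι A) ∈ 𝔪 := fun i => Ideal.subset_span ⟨i, rfl⟩
  have hm : ∀ p, p - C (constantCoeff p) ∈ 𝔪 := fun p => by
    rw [← pow_one 𝔪, mem_pow_idealOfVars_iff']
    intro x hx
    have : x = 0 := (Finsupp.degree_eq_zero_iff x).1 (Nat.lt_one_iff.1 hx)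
    subst this
    simp [constantCoeff]
  have hφm : ∀ p ∈ 𝔪, φ p ∈ irr 𝒜 := fun p hp => by
    have : 𝔪 ≤ (irr 𝒜).comap φ := Ideal.span_le.2 (by
      rintro _ ⟨i, rfl⟩
      simp only [SetLike.mem_coe, Ideal.mem_comap, φ, aeval_X]
      exact (y i).2)
    exact this hp
  have hker1 : ∀ p, φ p ∈ irr 𝒜 → p ∈ 𝔪 := fun p hp => by
    have h1 := sub_mem hp (hφm _ (hm p))
    rw [map_sub, sub_sub_cancel] at h1
    simp only [φ, aeval_C, mem_irr] at h1
    rw [proj_of_mem 𝒜 (SetLike.algebraMap_mem_graded 𝒜 _), if_pos rfl] at h1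
    have h2 := hm p
    rwa [hinj (h1.trans (map_zero _).symm), C_0, sub_zero] at h2
  have hker2 : ∀ p, φ p ∈ irr 𝒜 ^ 2 → p ∈ 𝔪 ^ 2 := fun p hp => by
    have hp1 : p ∈ 𝔪 := hker1 p (Ideal.pow_le_self two_ne_zero hp)
    obtain ⟨c, hc⟩ := Ideal.mem_span_range_iff_exists_fun.1 hp1
    have hsum : ∑ i, constantCoeff (c i) • bC i = 0 := by
      have h1 : q 𝒜 (∑ i, constantCoeff (c i) • y i) = 0 := by
        rw [q_eq_zero]
        have h2 : φ p - ((∑ i, constantCoeff (c i) • y i : irrA 𝒜) : B) ∈ irr 𝒜 ^ 2 := by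
          rw [← hc]
          simp only [map_sum, map_mul, AddSubmonoidClass.coe_finset_sum, SetLike.val_smul, φ, aeval_X,
            ← Finset.sum_sub_distrib]
          refine sum_mem fun i _ => ?_
          rw [Algebra.smul_def, ← sub_mul, pow_two]
          refine Ideal.mul_mem_mul ?_ (y i).2
          have := hφm _ (hm (c i))
          simpa [φ] using this
        simpa using sub_mem hp h2
      simpa [map_sum, hy] using h1
    have hc0 : ∀ i, constantCoeff (c i) = 0 := fun i =>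
      Fintype.linearIndependent_iff.1 bC.linearIndependent _ hsum i
    rw [← hc, pow_two]
    refine sum_mem fun i _ => Ideal.mul_mem_mul ?_ (hm_mem i)
    simpa [hc0] using hm (c i)
  -- a neighbourhood of the zero section
  obtain ⟨J, hJ⟩ := (PrimeSpectrum.isClosed_iff_zeroLocus_ideal _).1
    (Algebra.isOpen_smoothLocus (R := A) (A := B)).isClosed_compl
  have htop : J ⊔ irr 𝒜 = ⊤ := by
    by_contra hne
    obtain ⟨P, hP, hle⟩ := Ideal.exists_le_maximal _ hne
    have h1 : (⟨P, hP.isPrime⟩ : PrimeSpectrum B) ∈ PrimeSpectrum.zeroLocus (J : Set B) :=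
      fun x hx => hle (Ideal.mem_sup_left hx)
    rw [← hJ] at h1
    exact h1 (hsm P (le_sup_right.trans hle))
  obtain ⟨f, hf, g, hg, hfg⟩ := Submodule.mem_sup.1 (htop ▸ Submodule.mem_top : (1 : B) ∈ J ⊔ irr 𝒜)
  have : Algebra.Smooth A (Localization.Away f) := Algebra.basicOpen_subset_smoothLocus_iff_smooth.1 (by
    intro P hP
    by_contra hn
    have : P ∈ PrimeSpectrum.zeroLocus (J : Set B) := hJ ▸ hn
    exact hP (this hf))
  -- injectivity
  have key : ∀ N : ℕ, RingHom.ker φ ≤ 𝔪 ^ N := by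
    intro N
    induction N with
    | zero => simp
    | succ m ih =>
      intro p hp
      rcases Nat.lt_or_ge (m + 1) 3 with hlt | hge
      · have := hker2 p (by rw [RingHom.mem_ker.1 hp]; exact zero_mem _)
        exact Ideal.pow_le_pow_right (by omega) this
      let Q := MvPolynomial ι A ⧸ 𝔪 ^ (m + 1)
      let Q2 := MvPolynomial ι A ⧸ 𝔪 ^ 2
      let π : Q →ₐ[A] Q2 := Ideal.Quotient.factorₐ A (Ideal.pow_le_pow_right (by omega))
      let φ2 : Q2 →ₐ[A] B ⧸ irr 𝒜 ^ 2 := Ideal.Quotient.liftₐ _ ((Ideal.Quotient.mkₐ A _).comp φ) (by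
        intro x hx
        rw [AlgHom.comp_apply, Ideal.Quotient.mkₐ_eq_mk, Ideal.Quotient.eq_zero_iff_mem]
        have : (𝔪 ^ 2).map φ ≤ irr 𝒜 ^ 2 := by
          rw [Ideal.map_pow]
          exact Ideal.pow_right_mono (Ideal.map_le_iff_le_comap.2 hφm) 2
        exact this (Ideal.mem_map_of_mem φ hx))
      have hφ2 : Function.Bijective φ2 := by
        refine ⟨(injective_iff_map_eq_zero φ2).2 fun x hx => ?_, fun x => ?_⟩
        · obtain ⟨x, rfl⟩ := Ideal.Quotient.mk_surjective x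
          exact Ideal.Quotient.eq_zero_iff_mem.2 (hker2 x (Ideal.Quotient.eq_zero_iff_mem.1 hx))
        · obtain ⟨x, rfl⟩ := Ideal.Quotient.mk_surjective x
          obtain ⟨z, rfl⟩ := hsurj x
          exact ⟨Ideal.Quotient.mk _ z, rfl⟩
      let χ : B →ₐ[A] Q2 := (AlgEquiv.ofBijective φ2 hφ2).symm.toAlgHom.comp (Ideal.Quotient.mkₐ A _)
      have hχ : ∀ z, χ (φ z) = Ideal.Quotient.mk _ z := fun z =>
        hφ2.1 ((AlgEquiv.ofBijective φ2 hφ2).apply_symm_apply _)
      have hunit : IsUnit (χ f) := by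
        have hn : IsNilpotent (χ g) := by
          obtain ⟨z, rfl⟩ := hsurj g
          refine ⟨2, ?_⟩
          rw [hχ, ← map_pow, Ideal.Quotient.eq_zero_iff_mem]
          exact Ideal.pow_mem_pow (hker1 z hg) 2
        have h1 : χ f = 1 - χ g := by rw [eq_sub_iff_add_eq, ← map_add, hfg, map_one]
        rw [h1]; exact hn.isUnit_one_sub
      let χf : Localization.Away f →ₐ[A] Q2 := IsLocalization.liftAlgHom (M := Submonoid.powers f) (f := χ)
        (fun s => by obtain ⟨_, k, rfl⟩ := s; rw [map_pow]; exact hunit.pow k)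
      have hnil : IsNilpotent (RingHom.ker (π : Q →+* Q2)) := by
        refine ⟨m + 1, ?_⟩
        have : RingHom.ker (π : Q →+* Q2) ≤ 𝔪.map (Ideal.Quotient.mk (𝔪 ^ (m + 1))) := by
          intro x hx
          obtain ⟨x, rfl⟩ := Ideal.Quotient.mk_surjective x
          exact Ideal.mem_map_of_mem _ (Ideal.pow_le_self two_ne_zero (Ideal.Quotient.eq_zero_iff_mem.1 hx))
        refine le_bot_iff.1 ((Ideal.pow_right_mono this _).trans ?_)
        rw [← Ideal.map_pow, Ideal.map_quotient_self]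
      let ψf := Algebra.FormallySmooth.liftOfSurjective χf π (Ideal.Quotient.factor_surjective (Ideal.pow_le_pow_right (by omega))) hnil
      let ψ : B →ₐ[A] Q := ψf.comp (IsScalarTower.toAlgHom A B (Localization.Away f))
      have hψ : ∀ b, π (ψ b) = χ b := fun b => by
        change π (ψf (algebraMap B _ b)) = _
        refine (DFunLike.congr_fun (Algebra.FormallySmooth.comp_liftOfSurjective χf π
          (Ideal.Quotient.factor_surjective (Ideal.pow_le_pow_right (by omega))) hnil) _).trans ?_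
        simp [χf, IsLocalization.liftAlgHom_apply, IsLocalization.lift_eq]
      let θ : MvPolynomial ι A →ₐ[A] Q := ψ.comp φ
      let mkQ := Ideal.Quotient.mkₐ A (𝔪 ^ (m + 1))
      let M : Ideal Q := 𝔪.map mkQ
      have hd : ∀ x, θ x - mkQ x ∈ M ^ 2 := fun x => by
        obtain ⟨w, hw⟩ := Ideal.Quotient.mk_surjective (θ x - mkQ x)
        rw [← hw, ← Ideal.map_pow]
        refine Ideal.mem_map_of_mem mkQ ?_
        rw [← Ideal.Quotient.eq_zero_iff_mem]
        have := congrArg π hw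
        rw [map_sub] at this
        refine this.trans ?_
        simp only [θ, AlgHom.comp_apply, hψ, hχ]
        exact sub_self _
      have hθm : ∀ x ∈ 𝔪, θ x ∈ M := fun x hx => by
        have := add_mem (Ideal.pow_le_self two_ne_zero (hd x)) (Ideal.mem_map_of_mem mkQ hx)
        rwa [sub_add_cancel] at this
      have hθ : ∀ j, ∀ x ∈ 𝔪 ^ j, θ x - mkQ x ∈ M ^ (j + 1) ∧ θ x ∈ M ^ j := by
        intro j
        induction j with
        | zero => intro x _; exact ⟨(pow_one M).symm ▸ Ideal.pow_le_self two_ne_zero (hd x),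
            (pow_zero M).symm ▸ (Ideal.one_eq_top (R := Q)).symm ▸ Submodule.mem_top⟩
        | succ j ihj =>
          intro x hx
          rw [pow_succ] at hx
          refine Submodule.mul_induction_on hx (fun a ha b hb => ?_) (fun a b ha hb => ?_)
          · obtain ⟨h1, h2⟩ := ihj a ha
            have hb1 := Ideal.mem_map_of_mem mkQ hb
            constructor
            · rw [map_mul, map_mul, show θ a * θ b - mkQ a * mkQ b =
                θ a * (θ b - mkQ b) + (θ a - mkQ a) * mkQ b by ring]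
              refine add_mem ?_ ?_
              · exact Ideal.pow_le_pow_right (by omega) (pow_add M j 2 ▸ Ideal.mul_mem_mul h2 (hd b))
              · rw [pow_succ M (j + 1)]; exact Ideal.mul_mem_mul h1 hb1
            · rw [map_mul, pow_succ M j]; exact Ideal.mul_mem_mul h2 (hθm b hb)
          · refine ⟨?_, ?_⟩
            · rw [map_add, map_add, add_sub_add_comm]; exact add_mem ha.1 hb.1
            · rw [map_add]; exact add_mem ha.2 hb.2
      have h1 := (hθ m p (ih hp)).1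
      have h2 : θ p = 0 := by simp [θ, RingHom.mem_ker.1 hp]
      rw [h2, zero_sub, neg_mem_iff, ← Ideal.map_pow] at h1
      have h3 : (𝔪 ^ (m + 1)).map mkQ = ⊥ := Ideal.map_quotient_self _
      rw [h3] at h1
      exact Ideal.Quotient.eq_zero_iff_mem.1 h1
  have hinjφ : Function.Injective φ := (injective_iff_map_eq_zero φ).2 fun p hp => by
    ext x
    exact (mem_pow_idealOfVars_iff' (R := A) _ p).1 (key (x.degree + 1) hp) x (Nat.lt_succ_self _)
  exact ⟨(AlgEquiv.ofBijective φ ⟨hinjφ, hsurj⟩).symm⟩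

end Groth.Agent.GrSmooth
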